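import Cfsg.Agent.Lib.HeldSp4.Data
import Cfsg.Agent.Lib.CosetEnum.Pack
import Cfsg.Agent.Lib.Transvect.Symp

/-!
The 85 points of the symplectic space of dimension four over the field with four elements (helper71).

* `pperm`: the action of invertible matrices on the points
* `toGL`, `spPerm`, `spPerm_injective`
* `range_le`: a group of permutations containing the certified transvections contains the image of `Sp₄(4)`
* `not_mem_range`: the semilinear certificate
-/

set_option autoImplicit false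

namespace Cfsg.Agent.HeldSp4

open Matrix
open Cfsg.Agent.Unitary (GF4)
open Cfsg.Agent.CosetEnum (lane)

/-- index set -/
abbrev I4 : Type := Fin 2 ⊕ Fin 2

/-- number of a field element -/
def code : GF4 → ℕ
  | .zr => 0
  | .un => 1
  | .om => 2
  | .om2 => 3

/-- field element of a number -/
def gf : ℕ → GF4
  | 0 => .zr
  | 1 => .un
  | 2 => .om
  | _ => .om2

/-- number of a coordinate -/
def idx : I4 → ℕ
  | .inl i => i
  | .inr i => 2 + i

/-- a vector from its coordinates -/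
def mk4 (a b c d : GF4) : I4 → GF4 := Sum.elim ![a, b] ![c, d]

/-- number of a vector -/
def enc (v : I4 → GF4) : ℕ :=
  code (v (.inl 0)) + 4 * code (v (.inl 1)) + 16 * code (v (.inr 0)) + 64 * code (v (.inr 1))

/-- representing vector -/
noncomputable def pt (j : ℕ) : I4 → GF4 :=
  mk4 (gf (lane 8 ptTab j % 4)) (gf (lane 8 ptTab j / 4 % 4)) (gf (lane 8 ptTab j / 16 % 4))
    (gf (lane 8 ptTab j / 64 % 4))

/-- the point spanned by a vector -/
noncomputable def pid (v : I4 → GF4) : ℕ := lane 8 pidTab (enc v)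

theorem exists_mk4 (v : I4 → GF4) : ∃ a b c d, v = mk4 a b c d :=
  ⟨v (.inl 0), v (.inl 1), v (.inr 0), v (.inr 1), by
    funext i; rcases i with i | i <;> fin_cases i <;> rfl⟩

theorem forall_vec {P : (I4 → GF4) → Prop} (h : ∀ a b c d, P (mk4 a b c d)) (v : I4 → GF4) : P v := by
  obtain ⟨a, b, c, d, rfl⟩ := exists_mk4 v
  exact h a b c d

theorem pid_spec : ∀ a b c d : GF4, pid (mk4 a b c d) < 85 ∧
    ((a = 0 ∧ b = 0 ∧ c = 0 ∧ d = 0) ∨ ∃ s : GF4, s ≠ 0 ∧
      a = s * pt (pid (mk4 a b c d)) (.inl 0) ∧ b = s * pt (pid (mk4 a b c d)) (.inl 1) ∧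
      c = s * pt (pid (mk4 a b c d)) (.inr 0) ∧ d = s * pt (pid (mk4 a b c d)) (.inr 1)) := by
  decide +kernel

theorem pid_scale : ∀ a b c d s : GF4, s ≠ 0 →
    pid (mk4 (s * a) (s * b) (s * c) (s * d)) = pid (mk4 a b c d) := by
  decide +kernel

theorem pid_pt : ∀ j : Fin 85, pid (pt j) = j ∧ enc (pt j) ≠ 0 := by
  decide +kernel

theorem pt_ne_zero (j : Fin 85) : pt j ≠ 0 := by
  intro h
  refine (pid_pt j).2 ?_
  rw [h]
  rfl

theorem smul_mk4 (s a b c d : GF4) : s • mk4 a b c d = mk4 (s * a) (s * b) (s * c) (s * d) := by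
  funext i; rcases i with i | i <;> fin_cases i <;> rfl

theorem pid_lt (v : I4 → GF4) : pid v < 85 := by
  obtain ⟨a, b, c, d, rfl⟩ := exists_mk4 v
  exact (pid_spec a b c d).1

theorem exists_smul_pt {v : I4 → GF4} (hv : v ≠ 0) : ∃ s : GF4, s ≠ 0 ∧ v = s • pt (pid v) := by
  obtain ⟨a, b, c, d, rfl⟩ := exists_mk4 v
  rcases (pid_spec a b c d).2 with ⟨rfl, rfl, rfl, rfl⟩ | ⟨s, hs, ha, hb, hc, hd⟩
  · exact absurd (by funext i; rcases i with i | i <;> fin_cases i <;> rfl) hv
  · refine ⟨s, hs, ?_⟩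
    funext i; rcases i with i | i <;> fin_cases i
    · exact ha
    · exact hb
    · exact hc
    · exact hd

theorem pid_smul {s : GF4} (hs : s ≠ 0) (v : I4 → GF4) : pid (s • v) = pid v := by
  obtain ⟨a, b, c, d, rfl⟩ := exists_mk4 v
  rw [smul_mk4]
  exact pid_scale a b c d s hs

/-- the point map of a matrix -/
noncomputable def pmap (A : Matrix I4 I4 GF4) (j : Fin 85) : Fin 85 := ⟨pid (A *ᵥ pt j), pid_lt _⟩

theorem mulVec_ne_zero (g : GL I4 GF4) {v : I4 → GF4} (hv : v ≠ 0) :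
    (g : Matrix I4 I4 GF4) *ᵥ v ≠ 0 := by
  intro h
  apply hv
  have := congrArg (fun w => ((g⁻¹ : GL I4 GF4) : Matrix I4 I4 GF4) *ᵥ w) h
  simpa [Matrix.mulVec_mulVec, ← Units.val_mul] using this

theorem pmap_mul (g h : GL I4 GF4) (j : Fin 85) :
    pmap ((g * h : GL I4 GF4) : Matrix I4 I4 GF4) j =
      pmap (g : Matrix I4 I4 GF4) (pmap (h : Matrix I4 I4 GF4) j) := by
  apply Fin.ext
  show pid _ = pid ((g : Matrix I4 I4 GF4) *ᵥ pt (pid ((h : Matrix I4 I4 GF4) *ᵥ pt j)))
  obtain ⟨s, hs, e⟩ := exists_smul_pt (mulVec_ne_zero h (pt_ne_zero j))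
  rw [Units.val_mul, ← Matrix.mulVec_mulVec]
  conv_lhs => rw [e, Matrix.mulVec_smul, pid_smul hs]

theorem pmap_one (j : Fin 85) : pmap (1 : Matrix I4 I4 GF4) j = j :=
  Fin.ext (by show pid _ = _; rw [Matrix.one_mulVec]; exact (pid_pt j).1)

/-- the action of invertible matrices on the points -/
noncomputable def pperm : GL I4 GF4 →* Equiv.Perm (Fin 85) where
  toFun g :=
    { toFun := pmap (g : Matrix I4 I4 GF4)
      invFun := pmap ((g⁻¹ : GL I4 GF4) : Matrix I4 I4 GF4)
      left_inv := fun j => by rw [← pmap_mul, inv_mul_cancel, Units.val_one, pmap_one]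
      right_inv := fun j => by rw [← pmap_mul, mul_inv_cancel, Units.val_one, pmap_one] }
  map_one' := Equiv.ext fun j => pmap_one j
  map_mul' g h := Equiv.ext fun j => pmap_mul g h j

theorem pperm_apply (g : GL I4 GF4) (j : Fin 85) :
    ((pperm g j : Fin 85) : ℕ) = pid ((g : Matrix I4 I4 GF4) *ᵥ pt j) := rfl

/-- Sp₄(4) inside GL₄(4) -/
noncomputable def toGL : Matrix.symplecticGroup (Fin 2) GF4 →* GL I4 GF4 :=
  (Matrix.symplecticGroup (Fin 2) GF4).subtype.toHomUnits

theorem toGL_val (A : Matrix.symplecticGroup (Fin 2) GF4) :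
    (toGL A : Matrix I4 I4 GF4) = (A : Matrix I4 I4 GF4) := rfl

/-- the symplectic form in coordinates -/
def frm (u v : I4 → GF4) : GF4 :=
  u (.inr 0) * v (.inl 0) + u (.inr 1) * v (.inl 1) + u (.inl 0) * v (.inr 0) + u (.inl 1) * v (.inr 1)

theorem sympForm_eq (u v : I4 → GF4) : Cfsg.sympForm 2 GF4 u v = frm u v := by
  have hneg : ∀ x : GF4, -x = x := fun x => rfl
  simp [Cfsg.sympForm, frm, Matrix.J, dotProduct, Matrix.mulVec, Fintype.sum_sum_type,
    Fin.sum_univ_two, Matrix.one_apply, hneg]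
  ring

theorem toGL_mem (A : Matrix.symplecticGroup (Fin 2) GF4) : toGL A ∈ Cfsg.spGL 2 GF4 := by
  rw [Transvect.mem_spGL_iff]
  intro x y
  have hA : (A : Matrix I4 I4 GF4)ᵀ * Matrix.J (Fin 2) GF4 * (A : Matrix I4 I4 GF4) = Matrix.J (Fin 2) GF4 :=
    SymplecticGroup.mem_iff'.mp A.2
  simp only [Transvect.app_apply, toGL_val, Cfsg.sympForm]
  rw [← Matrix.vecMul_transpose, Matrix.mulVec_mulVec, Matrix.dotProduct_mulVec,
    Matrix.vecMul_vecMul, ← Matrix.mul_assoc, hA, ← Matrix.dotProduct_mulVec]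

/-- Sp₄(4) on the points -/
noncomputable def spPerm : Matrix.symplecticGroup (Fin 2) GF4 →* Equiv.Perm (Fin 85) := pperm.comp toGL

theorem unit_sq : ∀ s : GF4, s * s = 1 → s = 1 := by decide

theorem spPerm_injective : Function.Injective spPerm := by
  rw [injective_iff_map_eq_one]
  intro A hA
  have hsc : ∀ v : I4 → GF4, v ≠ 0 → ∃ s : GF4, (A : Matrix I4 I4 GF4) *ᵥ v = s • v := by
    intro v hv
    obtain ⟨s, hs, e⟩ := exists_smul_pt hv
    obtain ⟨s', -, e'⟩ := exists_smul_pt (mulVec_ne_zero (toGL A) hv)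
    have hfix : pid ((toGL A : Matrix I4 I4 GF4) *ᵥ v) = pid v := by
      have h := congrArg (fun π : Equiv.Perm (Fin 85) => ((π ⟨pid v, pid_lt v⟩ : Fin 85) : ℕ)) hA
      change pid ((toGL A : Matrix I4 I4 GF4) *ᵥ pt (pid v)) = pid v at h
      conv_lhs => rw [e, Matrix.mulVec_smul, pid_smul hs]
      exact h
    rw [hfix] at e'
    refine ⟨s' * s⁻¹, ?_⟩
    rw [← toGL_val, e']
    conv_rhs => rw [e, smul_smul, mul_assoc, inv_mul_cancel₀ hs, mul_one]
  have hcol : ∀ i, ∃ s : GF4, ∀ k, (A : Matrix I4 I4 GF4) k i = s * (if k = i then 1 else 0) := by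
    intro i
    obtain ⟨s, hs⟩ := hsc (Pi.single i 1) (by simp)
    refine ⟨s, fun k => ?_⟩
    have := congrFun hs k
    rw [Matrix.mulVec_single_one] at this
    simpa [Pi.single_apply] using this
  choose d hd using hcol
  have hdiag : (A : Matrix I4 I4 GF4) = Matrix.diagonal d := by
    ext k i
    rw [hd i k]
    by_cases hki : k = i
    · subst hki; simp
    · simp [hki]
  have hall : ∀ i k, d i = d k := by
    intro i k
    by_cases hik : i = k
    · rw [hik]
    obtain ⟨s, hs⟩ := hsc (Pi.single i 1 + Pi.single k 1) (fun h => by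
      have := congrFun h i; simp [hik] at this)
    rw [hdiag] at hs
    have h1 := congrFun hs i
    have h2 := congrFun hs k
    simp [Matrix.mulVec_diagonal, hik, Ne.symm hik] at h1 h2
    rw [h1, h2]
  have hJ := SymplecticGroup.mem_iff.mp A.2
  have hone : d (.inr 0) * d (.inl 0) = 1 := by
    have := congrFun (congrFun hJ (.inr 0)) (.inl 0)
    rw [hdiag] at this
    simp [Matrix.mul_apply, Matrix.diagonal_apply, Matrix.J] at this
    exact this
  have h1 : d (.inl 0) = 1 := unit_sq _ (by rw [hall (.inr 0) (.inl 0)] at hone; exact hone)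
  refine Subtype.ext ?_
  rw [hdiag]
  show Matrix.diagonal d = 1
  rw [← Matrix.diagonal_one]
  congr 1
  funext i
  rw [hall i (.inl 0), h1]

theorem tau_spec : ∀ j : Fin 85, ∀ c : Fin 3, ∀ i : Fin 85,
    pid (pt i + (gf (c + 1) * frm (pt i) (pt j)) • pt j) = lane 8 (tauTab.getD (3 * j + c) 0) i := by
  decide +kernel

theorem gf_cases : ∀ c : GF4, c = 0 ∨ ∃ k : Fin 3, c = gf (k + 1) := by decide

/-- a permutation group containing the transvection permutations contains the image of Sp₄(4) -/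
theorem range_le (R : Subgroup (Equiv.Perm (Fin 85)))
    (h : ∀ n < 255, ∃ π ∈ R, ∀ i : Fin 85, ((π i : Fin 85) : ℕ) = lane 8 (tauTab.getD n 0) i) :
    spPerm.range ≤ R := by
  have hf := Transvect.sympForm_isSymplectic (F := GF4) 2
  have hM : ∀ v, v ∈ Transvect.centres hf (R.comap pperm) := by
    intro v
    by_cases hv : v = 0
    · rw [hv]; exact Transvect.zero_mem_centres hf _
    obtain ⟨s, -, e⟩ := exists_smul_pt hv
    rw [e]
    refine Transvect.centres_smul hf ?_ s
    intro c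
    rcases gf_cases c with rfl | ⟨k, rfl⟩
    · have : Transvect.st hf (pt (pid v)) (0 : GF4) = 1 := Transvect.gl_ext fun x => by
        rw [Transvect.st_apply]; simp
      rw [this]; exact one_mem _
    · obtain ⟨π, hπ, hπ'⟩ := h (3 * pid v + k) (by have := pid_lt v; omega)
      have heq : pperm (Transvect.st hf (pt (pid v)) (gf (k + 1))) = π := by
        refine Equiv.ext fun i => Fin.ext ?_
        rw [hπ' i, pperm_apply, ← Transvect.app_apply, Transvect.st_apply, sympForm_eq]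
        exact tau_spec ⟨pid v, pid_lt v⟩ k i
      show pperm _ ∈ R
      rw [heq]; exact hπ
  rintro _ ⟨A, rfl⟩
  exact Transvect.spGL_le_of_centres _ hM (toGL_mem A)

/-- matrix of a table -/
def mat4 (l : List (List ℕ)) : Matrix I4 I4 GF4 := Matrix.of fun i j => gf ((l.getD (idx i) []).getD (idx j) 0)

theorem matX_mem : mat4 matX ∈ Matrix.symplecticGroup (Fin 2) GF4 := by
  rw [SymplecticGroup.mem_iff]; decide +kernel

theorem matY_mem : mat4 matY ∈ Matrix.symplecticGroup (Fin 2) GF4 := by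
  rw [SymplecticGroup.mem_iff]; decide +kernel

theorem outer_spec : ∀ j : Fin 85, lane 8 (genTab.getD 5 0) (pid (mat4 matX *ᵥ pt j)) =
    pid (mat4 matY *ᵥ pt (lane 8 (genTab.getD 5 0) j)) := by
  decide +kernel

theorem trace_ne : Matrix.trace (mat4 matX) ≠ Matrix.trace (mat4 matY) := by decide +kernel

/-- the semilinear generator is not in the image of Sp₄(4) -/
theorem not_mem_range (π : Equiv.Perm (Fin 85))
    (hπ : ∀ i : Fin 85, ((π i : Fin 85) : ℕ) = lane 8 (genTab.getD 5 0) i) : π ∉ spPerm.range := by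
  rintro ⟨A, rfl⟩
  set X : Matrix.symplecticGroup (Fin 2) GF4 := ⟨_, matX_mem⟩
  set Y : Matrix.symplecticGroup (Fin 2) GF4 := ⟨_, matY_mem⟩
  have hAX : A * X = Y * A := spPerm_injective (Equiv.ext fun j => Fin.ext (by
    rw [map_mul, map_mul, Equiv.Perm.mul_apply, Equiv.Perm.mul_apply, hπ]
    show lane 8 (genTab.getD 5 0) (pid (mat4 matX *ᵥ pt j)) = pid (mat4 matY *ᵥ pt _)
    rw [hπ, outer_spec j]))
  apply trace_ne
  have h1 : (A : Matrix I4 I4 GF4) * mat4 matX * ((A⁻¹ : Matrix.symplecticGroup (Fin 2) GF4) : Matrix I4 I4 GF4)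
      = mat4 matY := congrArg Subtype.val (show A * X * A⁻¹ = Y by rw [hAX, mul_inv_cancel_right])
  have h2 : ((A⁻¹ : Matrix.symplecticGroup (Fin 2) GF4) : Matrix I4 I4 GF4) * (A : Matrix I4 I4 GF4) = 1 :=
    congrArg Subtype.val (inv_mul_cancel A)
  rw [← h1, Matrix.trace_mul_comm, ← Matrix.mul_assoc, h2, Matrix.one_mul]

end Cfsg.Agent.HeldSp4
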