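import Cfsg.Agent.S1683
import Cfsg.Agent.Lib.HeldSp4.Data

/-!
Certified facts about the orbit of length 425 of the stabiliser in the Held group and the 85 blocks in it (helper71).

* `gw`, `lab`, `sec`, `gfun`, `tfun`
* `gen_check`, `sec_spec`, `gfun_spec`, `word_check`, `steps_check`
-/

set_option autoImplicit false

namespace Cfsg.Agent.HeldSp4

open Cfsg.Agent.CosetEnum

/-- block label plus one -/
noncomputable def lab (i : ℕ) : ℕ := lane 8 labTab i

/-- a coset in a given block -/
noncomputable def sec (j : ℕ) : ℕ := lane 12 secTab j

/-- a generator on the blocks -/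
noncomputable def gfun (k j : ℕ) : ℕ := lane 8 (genTab.getD k 0) j

/-- a transvection on the blocks -/
noncomputable def tfun (n j : ℕ) : ℕ := lane 8 (tauTab.getD n 0) j

/-- the word of a generator -/
noncomputable def gw (k : ℕ) : List ℕ := (heH2058.map (heSetup.wl he2058)).getD k []

/-- the words of the first transvections applied to a block -/
noncomputable def wapp : List ℕ → ℕ → ℕ
  | [], j => j
  | k :: v, j => wapp v (gfun k j)

/-- one generator respects the blocks -/
noncomputable def genOK (k : ℕ) : Bool :=
  ((gw k).all fun a => Nat.blt a he2058.k) &&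
    force (he2058.trace (gw k)) fun V => (List.range 2058).all fun i =>
      Nat.beq (lab i) 0 || Nat.beq (lab (lane 13 V i)) (gfun k (lab i - 1) + 1)

theorem gen_check : ((List.range 7).all genOK) = true := by decide +kernel

theorem lab_le : ((List.range 2058).all fun i => Nat.ble (lab i) 85) = true := by decide +kernel

theorem sec_spec : ∀ j : Fin 85, sec j < 2058 ∧ lab (sec j) = (j : ℕ) + 1 := by decide +kernel

theorem gfun_spec : ∀ k : Fin 7, ∀ j : Fin 85, gfun k j < 85 := by decide +kernel

theorem gfun_inj : ∀ k : Fin 7, ∀ i j : Fin 85, gfun k i = gfun k j → i = j := by decide +kernel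

theorem word_check : ∀ n : Fin 3, ((words.getD n []).all fun k => Nat.blt k 7) = true ∧
    ∀ j : Fin 85, wapp (words.getD n []) j = tfun n j := by
  decide +kernel

/-- the derivation of the remaining transvections -/
noncomputable def stepsOK : List ℕ → List (ℕ × ℕ × ℕ) → Bool
  | known, [] => (List.range 255).all fun n => known.contains n
  | known, (new, g, old) :: l => Nat.blt g 7 && known.contains old &&
      ((List.range 85).all fun j => Nat.beq (tfun new (gfun g j)) (gfun g (tfun old j))) &&
      stepsOK (new :: known) l

theorem steps_check : stepsOK [0, 1, 2] steps = true := by decide +kernel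

end Cfsg.Agent.HeldSp4
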