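import Cfsg.Agent.S1695
import Cfsg.Agent.Lib.HeldSp4.Geometry
import Cfsg.Agent.Lib.HeldSp4.Tables
import Cfsg.Agent.Lib.GLOrder.Symplectic

/-!
The stabiliser of the Held group on 2058 points acts faithfully on 85 blocks as the extension of `Sp₄(4)` by a field
automorphism (helper71).

* `hp`, `Hs`, `phi`, `phi_gen`
* `spPerm_range_le`, `phi_injective`, `exists_sp_index_two`
-/

set_option autoImplicit false

namespace Cfsg.Agent.HeldSp4

open Cfsg.Agent.CosetEnum Cfsg.Agent.CosetEnum.Data
open Cfsg.Agent.Unitary (GF4)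

/-- the permutation representation -/
noncomputable abbrev rho : heSetup.G →* Equiv.Perm (Fin he2058.n) :=
  Setup.hom S1683.table.gens S1683.table.letters S1683.table.perm S1683.table.rels

/-- the stabiliser -/
abbrev Hs : Subgroup heSetup.G := heSetup.closureOf heH2058

/-- `σ` describes the effect of `g` on the blocks -/
def IsBlock (g : heSetup.G) (σ : Equiv.Perm (Fin 85)) : Prop :=
  ∀ i : Fin he2058.n, ∀ j : Fin 85, lab i = (j : ℕ) + 1 → lab (rho g i) = (σ j : ℕ) + 1

theorem IsBlock.one : IsBlock 1 1 := fun i j h => by simpa using h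

theorem IsBlock.mul {g h : heSetup.G} {σ τ : Equiv.Perm (Fin 85)} (hg : IsBlock g σ) (hh : IsBlock h τ) :
    IsBlock (g * h) (σ * τ) := fun i j e => by
  rw [map_mul, Equiv.Perm.mul_apply, Equiv.Perm.mul_apply]
  exact hg _ _ (hh i j e)

theorem IsBlock.unique {g : heSetup.G} {σ τ : Equiv.Perm (Fin 85)} (hg : IsBlock g σ) (hh : IsBlock g τ) :
    σ = τ := by
  refine Equiv.ext fun j => Fin.ext ?_
  obtain ⟨h1, h2⟩ := sec_spec j
  have e1 := hg ⟨sec j, h1⟩ j h2
  have e2 := hh ⟨sec j, h1⟩ j h2
  omega

theorem he_finite : Finite heSetup.G :=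
  Nat.finite_of_card_ne_zero (by rw [S1695.main.2]; norm_num)

/-- the permutation of a generator -/
noncomputable def gperm (k : Fin 7) : Equiv.Perm (Fin 85) :=
  Equiv.ofBijective (fun j => (⟨gfun k j, gfun_spec k j⟩ : Fin 85))
    (Finite.injective_iff_bijective.mp fun i j h => gfun_inj k i j (congrArg Fin.val h))

theorem gperm_apply (k : Fin 7) (j : Fin 85) : (gperm k j : ℕ) = gfun k j := rfl

/-- the generators -/
noncomputable def hgen (k : Fin 7) : heSetup.G := PresentedGroup.mk heSetup.rels (heH2058.getD k 1)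

theorem isBlock_hgen (k : Fin 7) : IsBlock (hgen k) (gperm k) := by
  intro i j e
  have h := List.all_eq_true.mp gen_check (k : ℕ) (List.mem_range.mpr k.2)
  simp only [genOK, force_eq, Bool.and_eq_true, List.all_eq_true, Nat.blt_eq] at h
  obtain ⟨hw, h2⟩ := h
  have hgw : gw k = heSetup.wl he2058 (heH2058.getD k 1) := by
    unfold gw
    rw [List.getD_eq_getElem _ _ (by rw [List.length_map]; exact k.2), List.getElem_map,
      List.getD_eq_getElem _ _ (by exact k.2)]
    rfl
  have h3 := h2 (i : ℕ) (List.mem_range.mpr i.2)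
  simp only [Bool.or_eq_true, beq_iff] at h3
  have hi : (i : ℕ) < 2 ^ he2058.lg := lt_of_lt_of_le i.2 S1683.table.perm.hnN
  rw [Data.trace_eq S1683.table.perm _ hw,
    show lane 13 (pack he2058.B (2 ^ he2058.lg) fun x => he2058.tw (gw k) x) i = he2058.tw (gw k) i from
      lane_pack S1683.table.perm.hB (fun x hx => self_lt_two_pow_of_lt
        (by have := S1683.table.perm.hlg; omega) (Data.tw_lt S1683.table.perm _ hw x hx)) hi] at h3
  rcases h3 with h3 | h3
  · omega
  · rw [e, Nat.add_sub_cancel] at h3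
    rw [gperm_apply]
    show lab (rho (hgen k) i) = _
    rw [hgen, Setup.hom_mk, ← hgw, Setup.ev_perm _ _ hw]
    exact h3

theorem hgen_mem (k : Fin 7) : hgen k ∈ Hs := by
  refine Subgroup.subset_closure ⟨_, ?_, rfl⟩
  show heH2058.getD k 1 ∈ heH2058
  rw [List.getD_eq_getElem _ _ (by exact k.2)]
  exact List.getElem_mem _

theorem exists_block {g : heSetup.G} (hg : g ∈ Hs) : ∃ σ, IsBlock g σ := by
  induction hg using Subgroup.closure_induction with
  | mem g hg =>
    obtain ⟨r, hr, rfl⟩ := hg
    obtain ⟨k, hk, rfl⟩ := List.mem_iff_getElem.mp hr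
    refine ⟨gperm ⟨k, hk⟩, ?_⟩
    have := isBlock_hgen ⟨k, hk⟩
    rwa [hgen, List.getD_eq_getElem _ _ hk] at this
  | one => exact ⟨1, IsBlock.one⟩
  | mul x y _ _ hx hy => exact ⟨_, hx.choose_spec.mul hy.choose_spec⟩
  | inv x _ hx =>
    have := he_finite
    have hpow : ∀ m : ℕ, ∃ σ, IsBlock (x ^ m) σ := by
      intro m
      induction m with
      | zero => exact ⟨1, by rw [pow_zero]; exact IsBlock.one⟩
      | succ m ih => exact ⟨_, by rw [pow_succ]; exact ih.choose_spec.mul hx.choose_spec⟩
    obtain ⟨m, hm⟩ : ∃ m : ℕ, x⁻¹ = x ^ m := ⟨orderOf x - 1, by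
      rw [inv_eq_iff_mul_eq_one, ← pow_succ', Nat.sub_add_cancel (orderOf_pos x), pow_orderOf_eq_one]⟩
    rw [hm]
    exact hpow m

/-- the action of the stabiliser on the blocks -/
noncomputable def phi : Hs →* Equiv.Perm (Fin 85) where
  toFun g := (exists_block g.2).choose
  map_one' := (exists_block (1 : Hs).2).choose_spec.unique IsBlock.one
  map_mul' g h := (exists_block (g * h).2).choose_spec.unique
    ((exists_block g.2).choose_spec.mul (exists_block h.2).choose_spec)

theorem phi_gen (k : Fin 7) : gperm k ∈ phi.range :=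
  ⟨⟨_, hgen_mem k⟩, (exists_block (hgen_mem k)).choose_spec.unique (isBlock_hgen k)⟩

/-- a transvection lies in the range -/
def InR (n : ℕ) : Prop := ∃ π ∈ phi.range, ∀ j : Fin 85, (π j : ℕ) = tfun n j

theorem inR_step {new g old : ℕ} (hg : g < 7) (ho : InR old)
    (h : ∀ j < 85, tfun new (gfun g j) = gfun g (tfun old j)) : InR new := by
  obtain ⟨π, hπ, hπ'⟩ := ho
  set σ := gperm ⟨g, hg⟩
  refine ⟨σ * π * σ⁻¹, mul_mem (mul_mem (phi_gen _) hπ) (inv_mem (phi_gen _)), fun j => ?_⟩
  obtain ⟨i, rfl⟩ := σ.surjective j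
  rw [Equiv.Perm.mul_apply, Equiv.Perm.mul_apply, Equiv.Perm.inv_def, Equiv.symm_apply_apply, gperm_apply, gperm_apply, hπ']
  exact (h i i.2).symm

theorem inR_of_steps : ∀ (l : List (ℕ × ℕ × ℕ)) (known : List ℕ), (∀ n ∈ known, InR n) →
    stepsOK known l = true → ∀ n < 255, InR n
  | [], known, hk, h, n, hn => by
    simp only [stepsOK, List.all_eq_true, List.contains_iff_mem, List.mem_range] at h
    exact hk n (h n hn)
  | (new, g, old) :: l, known, hk, h, n, hn => by
    simp only [stepsOK, Bool.and_eq_true, Nat.blt_eq, List.all_eq_true, List.contains_iff_mem, List.mem_range,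
      beq_iff] at h
    obtain ⟨⟨⟨hg, ho⟩, hs⟩, hrec⟩ := h
    refine inR_of_steps l (new :: known) ?_ hrec n hn
    intro m hm
    rcases List.mem_cons.mp hm with rfl | hm
    · exact inR_step hg (hk _ ho) hs
    · exact hk m hm

theorem inR_base (n : Fin 3) : InR n := by
  obtain ⟨hw, he⟩ := word_check n
  simp only [List.all_eq_true, Nat.blt_eq] at hw
  let el : ℕ → Equiv.Perm (Fin 85) := fun k => if hk : k < 7 then gperm ⟨k, hk⟩ else 1
  refine ⟨ev el (words.getD n []), Setup.ev_mem el _ _ ?_, fun j => ?_⟩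
  · intro k hk
    show dite _ _ _ ∈ _
    rw [dif_pos (hw k hk)]
    exact phi_gen _
  · have key : ∀ w : List ℕ, (∀ k ∈ w, k < 7) → ∀ j : Fin 85, (ev el w j : ℕ) = wapp w j := by
      intro w
      induction w with
      | nil => intro _ j; rfl
      | cons a v ih =>
        intro hw j
        show ((ev el v * el a) j : ℕ) = wapp v (gfun a j)
        rw [Equiv.Perm.mul_apply, ih (fun k hk => hw k (List.mem_cons_of_mem a hk))]
        simp only [el, dif_pos (hw a List.mem_cons_self), gperm_apply]
    rw [key _ hw, he j]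

theorem spPerm_range_le : spPerm.range ≤ phi.range :=
  range_le _ (inR_of_steps steps [0, 1, 2] (fun n hn => by
    simp only [List.mem_cons, List.not_mem_nil, or_false] at hn
    rcases hn with rfl | rfl | rfl
    · exact inR_base 0
    · exact inR_base 1
    · exact inR_base 2) steps_check)

theorem card_spPerm_range : Nat.card spPerm.range = 979200 := by
  rw [← Nat.card_congr (MonoidHom.ofInjective spPerm_injective).toEquiv, GLOrder.card_Sp,
    Nat.card_eq_fintype_card, Unitary.GF4.card]
  decide

theorem card_Hs : Nat.card Hs = 1958400 := by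
  have h := Hs.index_mul_card
  rw [Setup.Table.index S1683.table, S1695.main.2, show he2058.n = 2058 from rfl] at h
  omega

theorem relIndex_and_injective : spPerm.range.relIndex phi.range = 2 ∧ Function.Injective phi := by
  have := he_finite
  have hmul : 979200 * spPerm.range.relIndex phi.range = Nat.card phi.range := by
    rw [← card_spPerm_range]
    simpa [Subgroup.relIndex_bot_left] using
      Subgroup.relIndex_mul_relIndex ⊥ spPerm.range phi.range bot_le spPerm_range_le
  have hne : spPerm.range.relIndex phi.range ≠ 1 := by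
    rw [Ne, Subgroup.relIndex_eq_one]
    exact fun hle => not_mem_range (gperm 5) (fun j => rfl) (hle (phi_gen 5))
  have hle : Nat.card phi.range ≤ 1958400 :=
    card_Hs ▸ Nat.card_le_card_of_surjective _ phi.rangeRestrict_surjective
  have h0 : spPerm.range.relIndex phi.range ≠ 0 := by
    intro h0
    rw [h0, mul_zero] at hmul
    exact Nat.card_pos.ne' hmul.symm
  have h2 : spPerm.range.relIndex phi.range = 2 := by omega
  refine ⟨h2, ?_⟩
  have hb : Function.Bijective phi.rangeRestrict :=
    (Nat.bijective_iff_surjective_and_card _).mpr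
      ⟨phi.rangeRestrict_surjective, by rw [card_Hs, ← hmul, h2]⟩
  exact fun x y hxy => hb.1 (Subtype.ext hxy)

/-- the stabiliser has a normal subgroup of index two isomorphic to `Sp₄(4)` -/
theorem exists_sp_index_two : ∃ N : Subgroup Hs, N.Normal ∧ N.index = 2 ∧
    Nonempty (N ≃* Matrix.symplecticGroup (Fin 2) GF4) := by
  obtain ⟨h2, hinj⟩ := relIndex_and_injective
  refine ⟨spPerm.range.comap phi, ?_, ?_, ⟨?_⟩⟩
  · exact Subgroup.normal_of_index_eq_two (by rw [Subgroup.index_comap, h2])
  · rw [Subgroup.index_comap, h2]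
  · exact ((Subgroup.equivMapOfInjective _ phi hinj).trans
      (MulEquiv.subgroupCongr (Subgroup.map_comap_eq_self spPerm_range_le))).trans
      (MonoidHom.ofInjective spPerm_injective).symm

end Cfsg.Agent.HeldSp4
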